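import Groth.Agent.L03.BlowPt.PtDeg
import Groth.Agent.L03.SurfAdj.Tools
import Groth.Agent.L21.Bundle.Twist
import Groth.Agent.L21.Duality.Deg
import Groth.Agent.L21.Duality.Canonical
import Groth.Agent.L21.GenusOne.GlobGen
import Groth.Agent.L21.RR.IdealTwist
import Groth.Agent.L05.PtSeq.Invertible
import Groth.Agent.L06.LocalBertini
import Groth.Agent.S2618
import Groth.Agent.S12460
import Groth.Prelude.Def_PicGrp

/-!
# Sections of modules of nonnegative degree on curves without `H¹(O)`
-/

set_option autoImplicit false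
set_option linter.style.haveILetI false
set_option linter.unusedSectionVars false
set_option backward.isDefEq.respectTransparency false

universe u

open CategoryTheory CategoryTheory.Limits AlgebraicGeometry TopologicalSpace Opposite IsLocalRing
attribute [local instance] Curv2.resAlgebra

noncomputable section

namespace Groth.L05.GenusZeroGen

open Groth.L21.RR

variable (k : Type u) [Field k] {X : Scheme.{u}} [X.Over (Spec (CommRingCat.of k))]
  [IsProper (X ↘ Spec (CommRingCat.of k))] [IsIntegral X]

theorem isRegular_genericPoint : IsRegularLocalRing (X.presheaf.stalk (genericPoint X)) := by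
  letI : Field (X.presheaf.stalk (genericPoint X)) := inferInstanceAs (Field X.functionField)
  infer_instance

include k in
theorem isOpen_regular : IsOpen {x : X | IsRegularLocalRing (X.presheaf.stalk x)} := by
  haveI : IsNoetherianRing (CommRingCat.of k) := inferInstanceAs (IsNoetherianRing k)
  refine (Groth.Agent.S12460.result (Spec (CommRingCat.of k))).2.2 (fun x => ?_) X (X ↘ _) inferInstance
  refine ⟨⟨⊤, isAffineOpen_top _⟩, trivial, fun S _ _ hS => ?_⟩
  have hf : IsField Γ(Spec (CommRingCat.of k), ⊤) :=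
    (Scheme.ΓSpecIso (CommRingCat.of k)).commRingCatIsoToRingEquiv.toMulEquiv.isField (Field.toIsField k)
  letI := hf.toField
  exact Groth.Agent.S2618.result Γ(Spec (CommRingCat.of k), ⊤) S

include k in
/-- A curve has finitely many singular points, all closed. -/
theorem finite_singular (hd : topologicalKrullDim X ≤ 1) :
    {x : X | ¬ IsRegularLocalRing (X.presheaf.stalk x)}.Finite ∧
      ∀ x : X, ¬ IsRegularLocalRing (X.presheaf.stalk x) → IsClosed ({x} : Set X) := by
  haveI := isNoetherian_of_proper (X := X) k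
  have hc : ∀ x : X, ¬ IsRegularLocalRing (X.presheaf.stalk x) → IsClosed ({x} : Set X) := fun x hx => by
    by_contra hne
    exact hx (eq_genericPoint_of_not_isClosed hd hne ▸ isRegular_genericPoint)
  refine ⟨?_, hc⟩
  have h := (Top.finite_of_forall_isClosed (X := X.toTopCat) (U := (⊤ : X.Opens))
    (F := {x | ¬ IsRegularLocalRing (X.presheaf.stalk x.1)})
    ((isOpen_regular k).isClosed_compl.preimage continuous_subtype_val) fun x hx => hc x.1 hx).image Subtype.val
  exact h.subset fun x hx => ⟨⟨x, trivial⟩, hx, rfl⟩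

theorem ne_generic_of_isClosed (hd : topologicalKrullDim X = 1) {x : X} (hx : IsClosed ({x} : Set X)) :
    x ≠ genericPoint X := fun h => by
  have huniv : ∀ y : X, y = x := fun y =>
    hx.closure_eq.le ((h ▸ (genericPoint_spec X).specializes trivial : x ⤳ y).mem_closure)
  haveI : Subsingleton X := ⟨fun a b => (huniv a).trans (huniv b).symm⟩
  haveI : DiscreteTopology X := Subsingleton.discreteTopology
  have := topologicalKrullDim_zero_of_discreteTopology X
  rw [hd] at this
  exact absurd this (by decide)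

include k in
/-- There is a regular closed point. -/
theorem exists_regular_closed : ∃ x : X, IsClosed ({x} : Set X) ∧ IsRegularLocalRing (X.presheaf.stalk x) := by
  haveI : JacobsonSpace X := LocallyOfFiniteType.jacobsonSpace (X ↘ Spec (CommRingCat.of k))
  obtain ⟨z, hz, hzc⟩ := nonempty_inter_closedPoints (Z := {x : X | IsRegularLocalRing (X.presheaf.stalk x)})
    ⟨_, isRegular_genericPoint⟩ (isOpen_regular k).isLocallyClosed
  exact ⟨z, hzc, hz⟩

include k in
/-- The ideal of a regular closed point of a curve is invertible. -/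
theorem isInvertible_pointIdeal (hd : topologicalKrullDim X = 1) {x : X} (hx : IsClosed ({x} : Set X))
    (hreg : IsRegularLocalRing (X.presheaf.stalk x)) :
    PicF.IsInvertible (ClSub.idealMod (Scheme.IdealSheafData.vanishingIdeal ⟨{x}, hx⟩)) := by
  haveI := isNoetherian_of_proper (X := X) k
  set D := Scheme.IdealSheafData.vanishingIdeal (X := X) ⟨{x}, hx⟩
  haveI := hreg
  haveI := Groth.L01.isDomain_of_regular (X.presheaf.stalk x)
  haveI := Groth.L10.RegUFD.isUFD (X.presheaf.stalk x)
  have hsupp : (D.support : Set X) = {x} := Scheme.IdealSheafData.coe_support_vanishingIdeal _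
  have hgen : IsGenericPoint x (D.support : Set X) := by rw [IsGenericPoint, hsupp, hx.closure_eq]
  haveI : AlgebraicGeometry.IsReduced D.subscheme := Groth.L18.isReduced_vanishingIdeal_subscheme _
  haveI : Subsingleton D.subscheme := ⟨fun a b => D.subschemeι.isClosedEmbedding.injective (by
    have ha : D.subschemeι a ∈ (D.support : Set X) := by rw [← D.range_subschemeι]; exact ⟨a, rfl⟩
    have hb : D.subschemeι b ∈ (D.support : Set X) := by rw [← D.range_subschemeι]; exact ⟨b, rfl⟩
    rw [hsupp, Set.mem_singleton_iff] at ha hb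
    exact ha.trans hb.symm)⟩
  haveI : Nonempty D.subscheme := by
    obtain ⟨a, -⟩ : x ∈ Set.range D.subschemeι := by rw [D.range_subschemeι, hsupp]; rfl
    exact ⟨a⟩
  haveI : IrreducibleSpace D.subscheme :=
    { toPreirreducibleSpace := ⟨fun U V _ _ hU hV => by
        obtain ⟨a, ha, hau⟩ := hU
        obtain ⟨b, hb, hbv⟩ := hV
        exact ⟨a, ha, hau, Subsingleton.elim b a ▸ hbv⟩⟩
      toNonempty := inferInstance }
  haveI := AlgebraicGeometry.isIntegral_of_irreducibleSpace_of_isReduced D.subscheme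
  have hdim : ringKrullDim (X.presheaf.stalk x) = 1 := by
    refine le_antisymm ((Groth.L21.SmoothDescent.ringKrullDim_stalk_le x).trans hd.le) ?_
    have hnf : ¬ IsField (X.presheaf.stalk x) := by
      intro hf
      refine ne_generic_of_isClosed hd hx ?_
      letI := hf.toField
      obtain ⟨p, hp⟩ : genericPoint X ∈ Set.range (X.fromSpecStalk x) := by
        rw [X.range_fromSpecStalk]
        exact (genericPoint_spec X).specializes trivial
      obtain ⟨q, hq⟩ : x ∈ Set.range (X.fromSpecStalk x) := by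
        rw [X.range_fromSpecStalk]
        exact specializes_rfl
      haveI : Subsingleton (PrimeSpectrum (X.presheaf.stalk x)) :=
        (PrimeSpectrum.subsingleton_iff_isField_of_isReduced).2 hf
      exact hq.symm.trans ((congrArg _ (Subsingleton.elim (α := PrimeSpectrum (X.presheaf.stalk x)) q p)).trans hp)
    by_contra hlt
    refine hnf (haveI : Ring.KrullDimLE 0 (X.presheaf.stalk x) := ?_; Ring.KrullDimLE.isField_of_isDomain)
    rw [Ring.krullDimLE_iff, Nat.cast_zero]
    revert hlt
    generalize ringKrullDim (X.presheaf.stalk x) = n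
    intro hlt
    induction n with
    | bot => exact bot_le
    | coe a =>
      rw [not_le, ← WithBot.coe_one, WithBot.coe_lt_coe, ENat.lt_one_iff_eq_zero] at hlt
      rw [hlt]; exact le_rfl
  refine (Groth.Agent.L19.IdealInvertible.isEffCartier_iff D).2 fun y => ?_
  by_cases hy : y ∈ (D.support : Set X)
  · obtain rfl : y = x := by rwa [hsupp] at hy
    obtain ⟨_, ⟨U, hU, rfl⟩, hyU, -⟩ :=
      X.isBasis_affineOpens.exists_subset_of_mem_open (Set.mem_univ y) isOpen_univ
    obtain ⟨p, hp, hpe⟩ := Groth.L05.FibreDecomp.exists_prime_generator D ⟨U, hU⟩ y hyU hgen hdim hy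
    obtain ⟨V, hxV, a, ha, haV⟩ := Groth.L22.Div.exists_principal_nhd D ⟨U, hU⟩ y hyU p hpe
      (mem_nonZeroDivisors_of_ne_zero hp.ne_zero)
    exact ⟨V, hxV, a, ha, haV⟩
  · obtain ⟨_, ⟨V, hV, rfl⟩, hxV, hVle⟩ := X.isBasis_affineOpens.exists_subset_of_mem_open
      (show y ∈ (D.support : Set X)ᶜ from hy) D.support.isClosed.isOpen_compl
    refine ⟨⟨V, hV⟩, hxV, 1, one_mem _, ?_⟩
    rw [Ideal.span_singleton_one]
    exact Groth.L22.CartierDecomp.ideal_eq_top fun z hz => hVle hz

/-- The degree of a closed point. -/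
theorem h0_pointQuot (hd : topologicalKrullDim X = 1) {x : X} (hx : IsClosed ({x} : Set X)) :
    h k 0 (ClSub.quotMod (Scheme.IdealSheafData.vanishingIdeal ⟨{x}, hx⟩)) =
      Module.finrank k (X.residueField x) := by
  have hs : genericPoint X ∉ ((Scheme.IdealSheafData.vanishingIdeal ⟨{x}, hx⟩ : X.IdealSheafData).support : Set X) := by
    rw [Scheme.IdealSheafData.coe_support_vanishingIdeal]
    exact fun h => ne_generic_of_isClosed hd hx h.symm
  have h1 : Curv2.euler k X (ClSub.quotMod (Scheme.IdealSheafData.vanishingIdeal ⟨{x}, hx⟩)) =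
      Module.finrank k (X.residueField x) := Groth.L03.BlowPt.ptDeg_eq hx k
  rw [euler_eq_h0_of_suppClosed k (suppClosed_quotMod_of_notMem hd.le _ hs)] at h1
  exact_mod_cast h1

theorem deg_pointIdeal (hd : topologicalKrullDim X = 1) {x : X} (hx : IsClosed ({x} : Set X))
    (hI : PicF.IsInvertible (ClSub.idealMod (Scheme.IdealSheafData.vanishingIdeal ⟨{x}, hx⟩))) :
    Curv2.deg k X (ClSub.idealMod (Scheme.IdealSheafData.vanishingIdeal ⟨{x}, hx⟩)) 1 =
      -(Module.finrank k (X.residueField x) : ℤ) := by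
  have h1 : Curv2.euler k X (ClSub.quotMod (Scheme.IdealSheafData.vanishingIdeal ⟨{x}, hx⟩)) =
      Module.finrank k (X.residueField x) := Groth.L03.BlowPt.ptDeg_eq hx k
  have h2 := Groth.L03.SurfAdj.euler_quotMod k _ hI
  rw [Curv2.deg]
  push_cast
  linarith

section Sections

variable {k} {M : X.Modules}

omit [IsProper (X ↘ Spec (CommRingCat.of k))] [IsIntegral X] [X.Over (Spec (CommRingCat.of k))] in
theorem surjective_st_iff_notMem (hM : PicF.IsInvertible M) (φ : Coh.structureModule X ⟶ M) (x : X) :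
    Function.Surjective (st φ x) ↔
      st φ x (one X x) ∉ maximalIdeal (X.presheaf.stalk x) • (⊤ : Submodule (X.presheaf.stalk x) (M.presheaf.stalk x)) := by
  obtain ⟨e, he⟩ := exists_frame_stalk hM x
  obtain ⟨b, hb⟩ := he.2 (st φ x (one X x))
  rw [surjective_st_iff he φ hb, ← hb]
  refine ⟨fun hu hmem => ?_, fun h => ?_⟩
  · obtain ⟨c, hc, hce⟩ : ∃ c ∈ maximalIdeal (X.presheaf.stalk x), b • e = c • e := by
      refine Submodule.smul_induction_on (p := fun v => ∃ c ∈ maximalIdeal (X.presheaf.stalk x), v = c • e) hmem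
        (fun r hr v _ => ?_) ?_
      · obtain ⟨a, rfl⟩ := he.2 v
        exact ⟨r * a, Ideal.mul_mem_right _ _ hr, smul_smul _ _ _⟩
      · rintro _ _ ⟨a, ha, rfl⟩ ⟨a', ha', rfl⟩
        exact ⟨a + a', add_mem ha ha', (add_smul _ _ _).symm⟩
    rw [he.1 hce] at hu
    exact hc hu
  · by_contra hu
    exact h (Submodule.smul_mem_smul ((IsLocalRing.mem_maximalIdeal _).2 hu) Submodule.mem_top)

omit [IsProper (X ↘ Spec (CommRingCat.of k))] [X.Over (Spec (CommRingCat.of k))] [IsIntegral X] in
theorem st_one_eq_germ (φ : Coh.structureModule X ⟶ M) (x : X) :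
    st φ x (one X x) = M.presheaf.germ ⊤ x trivial (φ.app ⊤ (oneSec X)) := by
  rw [st_one φ x (W := ⊤) trivial, Groth.L18.Frame.rs_self]

/-- The facts about a nonzero section. -/
theorem section_facts (hd : topologicalKrullDim X ≤ 1) (h1 : Subsingleton (Coh.HH X (Coh.structureModule X) 1))
    (hM : PicF.IsInvertible M) (hdeg : 0 ≤ Curv2.deg k X M 1) :
    Nontrivial (Coh.HH X M 0) ∧ ∀ φ : Coh.structureModule X ⟶ M, φ ≠ 0 →
      Function.Surjective (Groth.L16.CohLinear.hmap (cokernel.π φ) 0) := by
  haveI := isNoetherian_of_proper (X := X) k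
  haveI := finite_HH' k (Groth.L16.ProperFinite.isCoh_of_isInvertible hM) 0
  haveI := finite_HH' k (Groth.L16.CohClosedPush.isCoh_structure (X := X)) 0
  have hO : 1 ≤ h k 0 (Coh.structureModule X) := by
    haveI : Nonempty (⊤ : X.Opens) := ⟨⟨genericPoint X, trivial⟩⟩
    haveI : Nontrivial (Coh.HH X (Coh.structureModule X) 0) :=
      (e0 (Coh.structureModule X)).toEquiv.nontrivial (β := Γ(X, ⊤))
    exact Module.finrank_pos
  have hd' : Curv2.deg k X M 1 = Curv2.euler k X M - (1 : ℕ) * Curv2.euler k X (Coh.structureModule X) := rfl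
  rw [euler_eq k hd, euler_eq k hd, h_eq_zero_of_subsingleton k h1] at hd'
  push_cast at hd'
  refine ⟨Module.nontrivial_of_finrank_pos (R := k) (show 0 < h k 0 M by omega), fun φ hφ => ?_⟩
  obtain ⟨hle, hsur⟩ := h0_le_add k hd hM hφ
  refine hsur ?_
  rw [deg_eq_h0_cokernel k hd hM hφ] at hd'
  omega

/-- Some section generates at a given point. -/
theorem exists_surjective_st (hd : topologicalKrullDim X ≤ 1)
    (h1 : Subsingleton (Coh.HH X (Coh.structureModule X) 1)) (hM : PicF.IsInvertible M)
    (hdeg : 0 ≤ Curv2.deg k X M 1) (x : X) :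
    ∃ ψ : Coh.structureModule X ⟶ M, Function.Surjective (st ψ x) := by
  haveI := isNoetherian_of_proper (X := X) k
  obtain ⟨hnt, hsur⟩ := section_facts (k := k) hd h1 hM hdeg
  obtain ⟨φ, hφ⟩ := exists_hom_ne_zero (L := M)
  by_cases hx : Function.Surjective (st φ x)
  · exact ⟨φ, hx⟩
  haveI := mono_of_ne_zero hM hφ
  obtain ⟨e, he⟩ := exists_frame_stalk hM x
  obtain ⟨b, hb⟩ := he.2 (st φ x (one X x))
  obtain ⟨s, hs, -⟩ := exists_section_germ (suppClosed_cokernel hd hM hφ) x (st (cokernel.π φ) x e)
  obtain ⟨y, hy⟩ := hsur φ hφ ((e0 (cokernel φ)).symm s)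
  obtain ⟨ψ, hψ⟩ := exists_hom_of_hh0 y
  refine ⟨ψ, ?_⟩
  have hg : st (cokernel.π φ) x (st ψ x (one X x) - e) = 0 := by
    rw [map_sub, st_one_eq_germ, hψ, st_germ, ← e0_hmap, hy, AddEquiv.apply_symm_apply, hs, sub_self]
  obtain ⟨v, hv⟩ := exists_st_kernel (cokernel.π φ) x _ hg
  haveI : IsIso (Abelian.factorThruImage φ) := isIso_of_mono_of_epi _
  obtain ⟨w, hw⟩ := (Groth.L21.Mod.epi_iff_stalk_surjective (Abelian.factorThruImage φ)).1 inferInstance x v
  obtain ⟨a, ha⟩ := (bijective_smul_one x).2 w
  have hkey : st ψ x (one X x) - e = (a * b) • e := by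
    have h2 : st φ x w = st ψ x (one X x) - e := by
      rw [← hv, ← hw]
      refine Eq.trans ?_ (st_comp (Abelian.factorThruImage φ) (Abelian.image.ι φ) x w)
      rw [Abelian.image.fac]
    rw [← h2, ← ha]
    show st φ x (a • one X x) = _
    rw [map_smul, ← hb]
    exact smul_smul a b e
  rw [sub_eq_iff_eq_add] at hkey
  refine (surjective_st_iff he ψ (b := a * b + 1) ?_).2 ?_
  · rw [hkey, add_smul, one_smul]
  · refine IsLocalRing.isUnit_of_mem_nonunits_one_sub_self (a * b + 1) ?_
    rw [sub_add_cancel_right]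
    intro hu
    exact hx ((surjective_st_iff he φ hb).2 (IsUnit.neg_iff _ |>.1 hu |> fun h => (IsUnit.mul_iff.1 h).2))

/-- Over an infinite field a section can avoid finitely many points. -/
theorem exists_avoiding [Infinite k] (hd : topologicalKrullDim X ≤ 1)
    (h1 : Subsingleton (Coh.HH X (Coh.structureModule X) 1)) (hM : PicF.IsInvertible M)
    (hdeg : 0 ≤ Curv2.deg k X M 1) {F : Set X} (hF : F.Finite) :
    ∃ φ : Coh.structureModule X ⟶ M, φ ≠ 0 ∧ ∀ x ∈ F, Function.Surjective (st φ x) := by
  haveI := isNoetherian_of_proper (X := X) k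
  obtain ⟨hnt, -⟩ := section_facts (k := k) hd h1 hM hdeg
  let W : X → Submodule k (Coh.HH X M 0) := fun x =>
    { carrier := {s | M.presheaf.germ ⊤ x trivial (e0 M s) ∈
        maximalIdeal (X.presheaf.stalk x) • (⊤ : Submodule (X.presheaf.stalk x) (M.presheaf.stalk x))}
      add_mem' := fun {a b} ha hb => by
        simp only [Set.mem_ofPred_eq] at ha hb ⊢
        rw [map_add, map_add]
        exact add_mem ha hb
      zero_mem' := by simp only [Set.mem_ofPred_eq, map_zero]; exact zero_mem _
      smul_mem' := fun c a ha => by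
        simp only [Set.mem_ofPred_eq] at ha ⊢
        rw [e0_smul, Groth.L20.ModStalk.germ_smul]
        exact Submodule.smul_mem _ _ ha }
  haveI := hF.to_subtype
  obtain ⟨s, hs⟩ := Groth.L06.LocalBertini.avoid (k := k) (E := Coh.HH X M 0)
    (fun i : Option F => i.elim ⊥ fun x => W x.1) (by
      rintro (_ | ⟨x, hx⟩)
      · exact bot_ne_top
      · intro htop
        obtain ⟨ψ, hψ⟩ := exists_surjective_st (k := k) hd h1 hM hdeg x
        refine (surjective_st_iff_notMem hM ψ x).1 hψ ?_
        rw [st_one_eq_germ]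
        have h2 : (e0 M).symm (ψ.app ⊤ (oneSec X)) ∈ W x := by
          change W x = ⊤ at htop
          rw [htop]; trivial
        have h3 : M.presheaf.germ ⊤ x trivial (e0 M ((e0 M).symm (ψ.app ⊤ (oneSec X)))) ∈
            maximalIdeal (X.presheaf.stalk x) • (⊤ : Submodule (X.presheaf.stalk x) (M.presheaf.stalk x)) := h2
        rwa [AddEquiv.apply_symm_apply] at h3)
  obtain ⟨φ, hφ⟩ := exists_hom_of_hh0 s
  refine ⟨φ, fun h0 => hs none ?_, fun x hx => (surjective_st_iff_notMem hM φ x).2 ?_⟩
  · show s ∈ (⊥ : Submodule k _)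
    rw [Submodule.mem_bot]
    apply (e0 M).injective
    rw [← hφ, h0, map_zero]
    rfl
  · rw [st_one_eq_germ, hφ]
    exact hs (some ⟨x, hx⟩)

/-- A module of positive degree has a zero of small degree off a finite set. -/
theorem exists_point_le [Infinite k] (hd : topologicalKrullDim X ≤ 1)
    (h1 : Subsingleton (Coh.HH X (Coh.structureModule X) 1)) (hM : PicF.IsInvertible M)
    (hdeg : 0 < Curv2.deg k X M 1) {F : Set X} (hF : F.Finite) :
    ∃ x : X, IsClosed ({x} : Set X) ∧ x ∉ F ∧ (Module.finrank k (X.residueField x) : ℤ) ≤ Curv2.deg k X M 1 := by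
  haveI := isNoetherian_of_proper (X := X) k
  obtain ⟨φ, hφ, hav⟩ := exists_avoiding (k := k) hd h1 hM hdeg.le hF
  have hs := suppClosed_cokernel hd hM hφ
  have hQ := (Groth.L16.CohKernel.isCoh_kernel_cokernel Groth.L16.CohClosedPush.isCoh_structure
    (Groth.L16.ProperFinite.isCoh_of_isInvertible hM) φ).2
  rw [deg_eq_h0_cokernel k hd hM hφ] at hdeg ⊢
  obtain ⟨x, hx⟩ : ∃ x, Nontrivial ((cokernel φ).presheaf.stalk x) := by
    by_contra hall
    push Not at hall
    haveI : Subsingleton (Coh.HH X (cokernel φ) 0) := by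
      refine ⟨fun a b => (e0 (cokernel φ)).injective ?_⟩
      exact TopCat.Presheaf.section_ext ((Groth.L21.Mod.toAbSh X).obj (cokernel φ)) ⊤ _ _
        fun y _ => (hall y).elim _ _
    have : h k 0 (cokernel φ) = 0 := Module.finrank_zero_of_subsingleton
    omega
  have hxc : IsClosed ({x} : Set X) := by
    by_contra hc
    exact not_subsingleton _ (hs x hc)
  have hns : ¬ Function.Surjective (st φ x) := fun hsur => by
    refine not_subsingleton ((cokernel φ).presheaf.stalk x) (subsingleton_of_forall_eq 0 fun v => ?_)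
    obtain ⟨w, rfl⟩ := (Groth.L21.Mod.epi_iff_stalk_surjective (cokernel.π φ)).1 inferInstance x v
    obtain ⟨t, rfl⟩ := hsur w
    show st (cokernel.π φ) x (st φ x t) = 0
    rw [← st_comp, cokernel.condition, st, Functor.map_zero]
    rfl
  refine ⟨x, hxc, fun hxF => hns (hav x hxF), ?_⟩
  obtain ⟨α, hα, hα0⟩ := exists_value hM x
  have hα1 : α (st φ x (one X x)) = 0 := (hα0 _).2 (by
    by_contra h
    exact hns ((surjective_st_iff_notMem hM φ x).2 h))
  have hzero : φ ≫ toPoint x α = 0 := by
    refine Groth.L21.Mod.hom_ext_stalk fun y => ?_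
    ext v
    rw [Functor.map_zero]
    change st (φ ≫ toPoint x α) y v = 0
    by_cases hy : y = x
    · subst hy
      haveI := Groth.L00.Sky.isIso_counit (x := y) (resMod y)
      apply (ConcreteCategory.bijective_of_isIso ((Groth.L00.Sky.adj y).counit.app (resMod y))).1
      rw [st_comp, counit_toPoint, map_zero]
      obtain ⟨r, rfl⟩ := (bijective_smul_one y).2 v
      rw [map_smul, map_smul, hα1, smul_zero]
    · haveI := subsingleton_stalk_sky (P := x) hxc hy
      exact Subsingleton.elim _ _
  let g := cokernel.desc φ (toPoint x α) hzero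
  haveI : Epi (toPoint x α) := epi_toPoint α hxc hα
  haveI : Epi g := epi_of_epi_fac (cokernel.π_desc φ (toPoint x α) hzero)
  have hle := Groth.L21.RedCurve.h0_le_of_epi (k := k) hQ hs g
  have hsky := euler_skyPoint k hxc (isCoh_skyPoint α hxc (Groth.L16.ProperFinite.isCoh_of_isInvertible hM) hα)
  rw [euler_eq_h0_of_suppClosed k (suppClosed_sky hxc)] at hsky
  rw [← hsky]
  exact_mod_cast hle

/-- A module of degree zero is trivial. -/
theorem trivial_of_deg_zero (hd : topologicalKrullDim X ≤ 1)
    (h1 : Subsingleton (Coh.HH X (Coh.structureModule X) 1)) (hM : PicF.IsInvertible M)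
    (hdeg : Curv2.deg k X M 1 = 0) : Nonempty (Coh.structureModule X ≅ M) :=
  Groth.L21.Duality.nonempty_iso_of_deg_eq_zero hd hM hdeg (section_facts (k := k) hd h1 hM hdeg.ge).1

end Sections

section Degree

variable [PicGrp.Law X]

/-- The degree of a class. -/
def degCls (c : PicLoc.PicSet X) : ℤ := Curv2.deg k X (PicGrp.exists_eq_cls c).choose 1

theorem degCls_cls {L : X.Modules} (hL : PicF.IsInvertible L) : degCls k (PicGrp.cls L hL) = Curv2.deg k X L 1 := by
  obtain ⟨hL', he⟩ := (PicGrp.exists_eq_cls (PicGrp.cls L hL)).choose_spec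
  obtain ⟨e⟩ := (PicGrp.cls_eq_cls_iff hL hL').1 he
  rw [degCls, Curv2.deg, Curv2.deg, Groth.L03.Euler.euler_iso e.symm]

/-- The degree as a homomorphism. -/
def degHom (hd : topologicalKrullDim X = 1) : PicLoc.PicSet X →* Multiplicative ℤ :=
  MonoidHom.mk' (fun c => Multiplicative.ofAdd (degCls k c)) fun a b => by
    obtain ⟨A, hA, rfl⟩ := PicGrp.exists_eq_cls a
    obtain ⟨B, hB, rfl⟩ := PicGrp.exists_eq_cls b
    have hAB : PicF.IsInvertible (CohB1.tensorMod A B) := Groth.L18.GenLoc.isInvertible_tensor hA hB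
    rw [show PicGrp.cls A hA * PicGrp.cls B hB = PicGrp.cls _ hAB from Subtype.ext (PicGrp.cls_mul_cls_val hA hB),
      degCls_cls, degCls_cls, degCls_cls, Groth.L21.Duality.deg_tensor (k := k) hd hA hB, ofAdd_add]

theorem degCls_mul_zpow (hd : topologicalKrullDim X = 1) (a b : PicLoc.PicSet X) (n : ℤ) :
    degCls k (a * b ^ n) = degCls k a + n * degCls k b := by
  have h := map_mul (degHom k hd) a (b ^ n)
  rw [map_zpow] at h
  have h' := congrArg Multiplicative.toAdd h
  simpa [degHom] using h'

end Degree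

end Groth.L05.GenusZeroGen
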